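import Mathlib
import Groth.Agent.FibVALib.Curve
import Groth.Agent.RRVanLib.GG
import Groth.Prelude.Def_Curv2

/-!
# Geometric irreducibility passes to birational models
-/

set_option autoImplicit false
set_option linter.style.haveILetI false
set_option linter.unusedSectionVars false
set_option backward.isDefEq.respectTransparency.types false
universe u

open CategoryTheory CategoryTheory.Limits AlgebraicGeometry TopologicalSpace

noncomputable section

namespace BirIrrLib

theorem isIrreducible_preimage_generic {W X : Type*} [TopologicalSpace W] [TopologicalSpace X] [IrreducibleSpace W]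
    [QuasiSober W] [T0Space X] (f : W → X) (hf : Continuous f) (hs : Function.Surjective f) {η : X}
    (hη : IsGenericPoint η Set.univ) : IsIrreducible (f ⁻¹' {η}) := by
  have h1 : IsGenericPoint (f (genericPoint W)) Set.univ := by
    rw [isGenericPoint_def]
    refine Set.eq_univ_of_univ_subset ?_
    calc Set.univ = f '' closure {genericPoint W} := by
          rw [(genericPoint_spec W).def, Set.image_univ, hs.range_eq]
      _ ⊆ closure (f '' {genericPoint W}) := image_closure_subset_closure_image hf
      _ = closure {f (genericPoint W)} := by rw [Set.image_singleton]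
  refine (isIrreducible_iff_closure).1 ?_
  have hd : closure (f ⁻¹' {η}) = Set.univ := Set.eq_univ_of_univ_subset
    ((genericPoint_spec W).def.ge.trans (closure_mono (Set.singleton_subset_iff.2 (h1.eq hη))))
  rw [hd]
  exact IrreducibleSpace.isIrreducible_univ W

variable {K : Type u} [Field K]

/-- A scheme with the generic point of a geometrically irreducible one is geometrically irreducible. -/
theorem geometricallyIrreducible {Y X T₀ : Scheme.{u}} (s : Y ⟶ Spec (CommRingCat.of K))
    (p : X ⟶ Spec (CommRingCat.of K)) [GeometricallyIrreducible p] [IrreducibleSpace X] [IrreducibleSpace Y]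
    (j : T₀ ⟶ Y) (b : T₀ ⟶ X) [IsPreimmersion b] (h : j ≫ s = b ≫ p)
    (hj : Set.range j = {genericPoint Y}) (hb : Set.range b = {genericPoint X}) :
    GeometricallyIrreducible s := by
  refine ⟨geometrically_iff_of_isClosedUnderIsomorphisms.mpr fun K' _ x => ?_⟩
  haveI : Surjective x := ⟨fun y => ⟨Classical.arbitrary _, Subsingleton.elim _ _⟩⟩
  haveI : Flat x := by
    obtain ⟨φ, rfl⟩ := Spec.map_surjective x
    rw [Flat.SpecMap_iff]
    algebraize [φ.hom]
    exact RingHom.flat_algebraMap_iff.2 inferInstance
  haveI : IrreducibleSpace ↥(pullback p x) :=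
    GeometricallyIrreducible.geometrically_irreducibleSpace _ _ _ (IsPullback.of_hasPullback p x)
  haveI : Surjective (pullback.fst p x) := MorphismProperty.pullback_fst _ _ ‹_›
  have hW := isIrreducible_preimage_generic (pullback.fst p x) (pullback.fst p x).continuous
    (pullback.fst p x).surjective (genericPoint_spec X)
  rw [← hb, ← Scheme.Pullback.range_fst (f := pullback.fst p x) (g := b)] at hW
  haveI : IsPreimmersion (pullback.fst (pullback.fst p x) b) := MorphismProperty.pullback_fst _ _ ‹_›
  haveI : IrreducibleSpace ↥(pullback (pullback.fst p x) b) := by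
    have e := (pullback.fst (pullback.fst p x) b).isEmbedding
    haveI : PreirreducibleSpace ↥(pullback (pullback.fst p x) b) :=
      ⟨fun U V hU hV ⟨x₁, _, h₁⟩ ⟨x₂, _, h₂⟩ => by
        obtain ⟨U', hU', rfl⟩ := e.toIsInducing.isOpen_iff.1 hU
        obtain ⟨V', hV', rfl⟩ := e.toIsInducing.isOpen_iff.1 hV
        obtain ⟨z, ⟨w, rfl⟩, hz⟩ := hW.isPreirreducible U' V' hU' hV' ⟨_, ⟨x₁, rfl⟩, h₁⟩ ⟨_, ⟨x₂, rfl⟩, h₂⟩
        exact ⟨w, trivial, hz⟩⟩
    obtain ⟨z, hz⟩ := hW.nonempty
    obtain ⟨w, -⟩ := hz
    exact ⟨⟨w⟩⟩
  let a : pullback (pullback.fst p x) b ⟶ pullback s x :=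
    pullback.lift (pullback.snd _ _ ≫ j) (pullback.fst _ _ ≫ pullback.snd p x) (by
      rw [Category.assoc, Category.assoc, h, ← pullback.condition_assoc, pullback.condition])
  have hdense : ∀ z : ↥(pullback s x), ∃ w : ↥(pullback s x),
      w ∈ Set.range a ∧ w ⤳ z := by
    intro z
    haveI : Flat (pullback.fst s x) := MorphismProperty.pullback_fst _ _ ‹_›
    obtain ⟨w, hwz, hw⟩ := (Flat.generalizingMap (pullback.fst s x))
      ((genericPoint_spec Y).specializes (Set.mem_univ (pullback.fst s x z)))
    refine ⟨w, ?_, hwz⟩
    let m : pullback (j ≫ s) x ⟶ pullback s x :=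
      pullback.map (j ≫ s) x s x j (𝟙 _) (𝟙 _) (Category.comp_id _) (by simp)
    have hwm : w ∈ Set.range m := by
      rw [Scheme.Pullback.range_map]
      exact ⟨by rw [Set.mem_preimage, hw, hj]; rfl, ⟨pullback.snd s x w, rfl⟩⟩
    obtain ⟨v, rfl⟩ := hwm
    let n : pullback (j ≫ s) x ⟶ pullback (pullback.fst p x) b :=
      pullback.lift (pullback.lift (pullback.fst _ _ ≫ b) (pullback.snd _ _)
        (by rw [Category.assoc, ← h, pullback.condition])) (pullback.fst _ _) (pullback.lift_fst _ _ _)
    have hn : n ≫ a = m := by
      apply pullback.hom_ext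
      · simp only [n, a, m, pullback.map, Category.assoc, pullback.lift_fst, pullback.lift_snd_assoc]
      · simp only [n, a, m, pullback.map, Category.assoc, pullback.lift_snd, pullback.lift_fst_assoc,
          Category.comp_id]
    exact ⟨n v, by rw [← Scheme.Hom.comp_apply, hn]⟩
  have hd : closure (Set.range a) = Set.univ := Set.eq_univ_of_forall fun z => by
    obtain ⟨w, hw, hwz⟩ := hdense z
    exact hwz.mem_closed isClosed_closure (subset_closure hw)
  have hi : IsIrreducible (Set.univ : Set ↥(pullback s x)) := by
    rw [← hd, ← Set.image_univ]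
    exact isIrreducible_iff_closure.2 ((IrreducibleSpace.isIrreducible_univ _).image a a.continuous.continuousOn)
  exact (irreducibleSpace_def _).2 hi

attribute [local instance] VeryAmpleLib.bcOver

/-- Proper smooth geometrically irreducible schemes have only constant global functions. -/
theorem finrank_h0 (Y : Scheme.{u}) [Y.Over (Spec (CommRingCat.of K))] [IsProper (Y ↘ Spec (CommRingCat.of K))]
    [Smooth (Y ↘ Spec (CommRingCat.of K))] [GeometricallyIrreducible (Y ↘ Spec (CommRingCat.of K))] :
    Module.finrank K (Coh.HH Y (Coh.structureModule Y) 0) = 1 := by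
  haveI : GeometricallyConnected (Y ↘ Spec (CommRingCat.of K)) :=
    ⟨fun K' _ y Z fst snd h => by
      haveI : IrreducibleSpace Z :=
        GeometricallyIrreducible.geometrically_irreducibleSpace (f := Y ↘ Spec (CommRingCat.of K)) _ _ _ h
      infer_instance⟩
  haveI := FibVALib.geometricallyIntegral_of_geometricallyConnected (Y ↘ Spec (CommRingCat.of K))
  haveI : IsIntegral Y := GeometricallyIntegral.isIntegral_of_subsingleton (Y ↘ Spec (CommRingCat.of K))
  haveI := VeryAmpleLib.isProper_bc K Y (AlgebraicClosure K)
  haveI := VeryAmpleLib.isIntegral_bc K Y (AlgebraicClosure K)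
  rw [← VeryAmpleLib.h0_bc K Y (AlgebraicClosure K)]
  exact RRVanLib.finrank_h0_structure

end BirIrrLib

end
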